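import Cfsg.Agent.KFacts.ChevTwoInst

/-!
# S3509, `E₆`: the table of the subsystems `A₂ A₂ A₂` (helper194)

`TT6` : the `40` subsystems `{a | f a = 0 mod 3}`; `chk_f` : every function with `18` zeros is `± f` for a row.
-/

set_option autoImplicit false

namespace Cfsg.Agent.H194.RG

open Cfsg Cfsg.Lie Cfsg.Agent.ChevalleyStructure Cfsg.Agent.ChevalleyStructure.RootVec Cfsg.Agent.Nodes.RGDChev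
open Cfsg.Agent.KFacts.ChevTwoTab (carB)

/-- a row of the table -/
structure Row where
  f : List ℕ
  b : List ℕ
  c : List ℕ
  d : List ℕ
  u : List ℕ
  v : List ℕ
  g : List (List ℤ)
  t : List ℤ

/-- the table -/
def TT6 : List Row := [
  ⟨[0, 0, 0, 1, 0, 0], [38, 57, 71], [36, 42, 46], [37, 56, 70], [28, 31, 51], [45, 59, 65], [[0, 0, 0, 0, 1, 0, 0], [0, 0, 0, 0, 0, 1, 0], [0, 0, 0, 1, 0, 0, 0], [-1, 0, 0, -1, 0, 0, 0], [0, 0, 1, 0, 0, 0, 0], [0, 1, 0, 0, 0, 0, 0]], [1, 2, -1, 1, 1, -1]⟩,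
  ⟨[0, 0, 1, 0, 1, 0], [47, 66, 68], [39, 55, 36], [46, 56, 67], [27, 41, 52], [53, 62, 58], [[0, 0, 0, 0, 1, 0, 0], [0, 0, 1, 0, 0, 0, 0], [1, -1, -1, 0, -1, 0, 1], [0, 1, 0, 0, 0, 0, 0], [1, -1, -1, 1, 0, -1, 0], [0, 0, 0, 0, 0, 1, 0]], [1, 2, -1, 1, 1, -1]⟩,
  ⟨[0, 0, 1, 1, 0, 2], [49, 64, 69], [41, 53, 37], [46, 56, 68], [28, 40, 51], [54, 61, 60], [[0, 0, 0, 0, 1, 0, 0], [0, 0, 1, 0, 0, 0, 0], [1, -1, -1, 0, -1, 0, 1], [1, 0, -1, 1, 0, -1, 0], [0, 0, 0, 0, 0, 1, 0], [-1, 1, 1, -1, 0, 0, 0]], [1, 2, -1, 1, 1, -1]⟩,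
  ⟨[0, 0, 1, 1, 2, 1], [48, 65, 69], [40, 54, 38], [46, 56, 67], [28, 41, 52], [53, 61, 59], [[0, 0, 0, 0, 1, 0, 0], [0, 0, 1, 0, 0, 0, 0], [1, -1, -1, 0, -1, 0, 1], [1, 0, -1, 1, 0, -1, 0], [-1, 1, 1, -1, 0, 1, 0], [1, -1, -1, 1, 0, 0, 0]], [1, 2, -1, 1, 1, -1]⟩,
  ⟨[0, 1, 1, 0, 0, 2], [40, 60, 71], [37, 45, 49], [39, 56, 67], [29, 38, 54], [44, 58, 62], [[0, 0, 0, 0, 1, 0, 0], [-1, 0, 0, -1, 0, 1, 0], [-1, 0, 0, 0, 0, 0, 0], [0, 0, 1, 0, 0, 0, 0], [0, 1, 0, 0, 0, 0, 0], [1, -1, -1, 1, 0, 0, 0]], [1, 2, -1, 1, 1, -1]⟩,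
  ⟨[0, 1, 1, 0, 2, 1], [41, 59, 71], [38, 44, 48], [39, 56, 68], [29, 37, 53], [45, 58, 63], [[0, 0, 0, 0, 1, 0, 0], [-1, 0, 0, -1, 0, 1, 0], [-1, 0, 0, 0, 0, 0, 0], [0, 0, 1, 0, 0, 0, 0], [1, 0, -1, 1, 0, 0, 0], [-1, 1, 1, -1, 0, 0, 0]], [1, 2, -1, 1, 1, -1]⟩,
  ⟨[0, 1, 1, 2, 1, 0], [41, 58, 71], [36, 43, 47], [40, 56, 69], [29, 34, 53], [45, 59, 63], [[0, 0, 0, 0, 1, 0, 0], [-1, 0, 0, -1, 0, 1, 0], [-1, 0, 0, 0, 0, 0, 0], [1, 0, 0, 1, 0, 0, 0], [-1, 0, 1, -1, 0, 0, 0], [0, 1, 0, 0, 0, 0, 0]], [1, 2, -1, 1, 1, -1]⟩,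
  ⟨[0, 1, 2, 0, 2, 0], [49, 61, 70], [36, 50, 39], [48, 56, 69], [29, 34, 53], [52, 62, 60], [[0, 0, 0, 0, 1, 0, 0], [1, 0, 0, 1, 0, -1, 0], [-1, 0, 0, 0, 0, 0, 0], [0, 0, 0, 0, 0, 1, 0], [-1, 0, 1, -1, 0, 0, 0], [0, 1, 0, 0, 0, 0, 0]], [1, 2, -1, 1, 1, -1]⟩,
  ⟨[0, 1, 2, 2, 0, 1], [48, 63, 70], [37, 52, 41], [47, 56, 67], [29, 38, 54], [51, 61, 59], [[0, 0, 0, 0, 1, 0, 0], [1, 0, 0, 1, 0, -1, 0], [-1, 0, 0, 0, 0, 0, 0], [-1, 0, 1, -1, 0, 1, 0], [0, 1, 0, 0, 0, 0, 0], [1, -1, -1, 1, 0, 0, 0]], [1, 2, -1, 1, 1, -1]⟩,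
  ⟨[0, 1, 2, 2, 1, 2], [49, 62, 70], [38, 51, 40], [47, 56, 68], [29, 37, 53], [52, 61, 60], [[0, 0, 0, 0, 1, 0, 0], [1, 0, 0, 1, 0, -1, 0], [-1, 0, 0, 0, 0, 0, 0], [-1, 0, 1, -1, 0, 1, 0], [1, 0, -1, 1, 0, 0, 0], [-1, 1, 1, -1, 0, 0, 0]], [1, 2, -1, 1, 1, -1]⟩,
  ⟨[1, 0, 0, 1, 0, 1], [55, 63, 67], [37, 46, 42], [54, 60, 64], [45, 32, 50], [48, 65, 59], [[-1, 0, 0, 0, 1, 0, 0], [0, 0, 0, 1, 0, 0, 0], [0, 0, 0, 0, 0, 1, 0], [-1, 0, 1, -1, 0, 0, 0], [0, 1, 0, 0, 0, 0, 0], [-1, 0, 1, 0, 1, 0, -1]], [1, 2, -1, 1, 1, -1]⟩,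
  ⟨[1, 0, 0, 1, 1, 2], [55, 62, 68], [38, 46, 42], [53, 59, 65], [44, 32, 50], [49, 64, 60], [[-1, 0, 0, 0, 1, 0, 0], [0, 0, 0, 1, 0, 0, 0], [0, 0, 0, 0, 0, 1, 0], [-1, 0, 1, -1, 0, 0, 0], [-1, 1, 1, 0, 1, 0, -1], [1, 0, -1, 0, -1, 0, 1]], [1, 2, -1, 1, 1, -1]⟩,
  ⟨[1, 0, 0, 2, 2, 0], [54, 61, 69], [36, 46, 42], [53, 58, 66], [43, 31, 51], [49, 64, 60], [[-1, 0, 0, 0, 1, 0, 0], [0, 0, 0, 1, 0, 0, 0], [0, 0, 0, 0, 0, 1, 0], [1, 0, 0, 0, 0, -1, 0], [1, -1, -1, 0, -1, 0, 1], [0, 1, 0, 0, 0, 0, 0]], [1, 2, -1, 1, 1, -1]⟩,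
  ⟨[1, 0, 2, 1, 1, 0], [50, 65, 69], [43, 36, 55], [46, 64, 57], [31, 49, 45], [53, 58, 62], [[1, -1, -1, 0, 1, 0, 0], [0, 0, 1, 0, 0, 0, 0], [-1, 1, 1, 0, -1, 0, 1], [1, 0, -1, 0, 1, 0, -1], [1, -1, -1, -1, 0, 1, 0], [0, 0, 0, 1, 0, 0, 0]], [1, 2, 1, -1, -1, 1]⟩,
  ⟨[1, 0, 2, 2, 0, 2], [52, 66, 67], [45, 37, 53], [46, 65, 57], [32, 48, 44], [54, 60, 61], [[1, -1, -1, 0, 1, 0, 0], [0, 0, 1, 0, 0, 0, 0], [-1, 1, 1, 0, -1, 0, 1], [-1, 0, 0, 0, 0, 0, 0], [0, 0, 0, 1, 0, 0, 0], [-1, 1, 1, 0, 0, -1, 0]], [1, 2, 1, -1, -1, 1]⟩,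
  ⟨[1, 0, 2, 2, 2, 1], [51, 66, 68], [44, 38, 54], [46, 64, 57], [32, 49, 45], [53, 59, 61], [[1, -1, -1, 0, 1, 0, 0], [0, 0, 1, 0, 0, 0, 0], [-1, 1, 1, 0, -1, 0, 1], [-1, 0, 0, 0, 0, 0, 0], [-1, 1, 1, 1, 0, -1, 0], [1, -1, -1, 0, 0, 1, 0]], [1, 2, 1, -1, -1, 1]⟩,
  ⟨[1, 1, 0, 1, 0, 1], [52, 62, 70], [42, 37, 53], [49, 61, 60], [38, 48, 44], [50, 57, 65], [[1, -1, -1, 0, 1, 0, 0], [1, 0, 0, 0, 1, 0, -1], [0, 1, 0, 0, 0, 0, 0], [1, -1, -1, -1, 0, 1, 0], [0, 0, 0, 1, 0, 0, 0], [1, 0, 0, -1, 0, 0, 0]], [1, 2, 1, -1, -1, 1]⟩,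
  ⟨[1, 1, 0, 1, 1, 2], [51, 63, 70], [42, 38, 54], [48, 61, 59], [37, 49, 45], [50, 57, 64], [[1, -1, -1, 0, 1, 0, 0], [1, 0, 0, 0, 1, 0, -1], [0, 1, 0, 0, 0, 0, 0], [1, -1, -1, -1, 0, 1, 0], [1, 0, 0, 0, 0, 0, 0], [-1, 0, 0, 1, 0, 0, 0]], [1, 2, 1, -1, -1, 1]⟩,
  ⟨[1, 1, 0, 2, 2, 0], [50, 63, 70], [42, 36, 55], [47, 62, 58], [34, 49, 45], [51, 57, 64], [[1, -1, -1, 0, 1, 0, 0], [1, 0, 0, 0, 1, 0, -1], [0, 1, 0, 0, 0, 0, 0], [-1, 0, 1, 0, -1, 0, 1], [-1, 0, 0, 0, 0, 0, 0], [0, 0, 0, 1, 0, 0, 0]], [1, 2, 1, -1, -1, 1]⟩,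
  ⟨[1, 1, 1, 0, 1, 1], [53, 66, 68], [39, 49, 45], [51, 59, 61], [44, 41, 52], [47, 62, 58], [[-1, 0, 0, 0, 1, 0, 0], [-1, 0, 1, 0, 0, 0, 0], [-1, 0, 1, -1, 0, 1, 0], [0, 1, 0, 0, 0, 0, 0], [-1, 0, 1, 0, 1, 0, -1], [-1, 0, 0, 0, 0, 1, 0]], [1, 2, -1, 1, 1, -1]⟩,
  ⟨[1, 1, 1, 0, 2, 2], [54, 66, 67], [39, 48, 44], [52, 60, 61], [45, 40, 51], [47, 63, 58], [[-1, 0, 0, 0, 1, 0, 0], [-1, 0, 1, 0, 0, 0, 0], [-1, 0, 1, -1, 0, 1, 0], [0, 1, 0, 0, 0, 0, 0], [1, -1, -1, 1, 0, 0, 0], [1, 0, 0, 0, 0, -1, 0]], [1, 2, -1, 1, 1, -1]⟩,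
  ⟨[1, 1, 1, 1, 1, 1], [54, 64, 69], [41, 48, 44], [50, 58, 63], [43, 40, 51], [49, 61, 60], [[-1, 0, 0, 0, 1, 0, 0], [-1, 0, 1, 0, 0, 0, 0], [-1, 0, 1, -1, 0, 1, 0], [-1, 1, 1, 0, 1, 0, -1], [-1, 0, 0, 0, 0, 1, 0], [-1, 1, 1, -1, 0, 0, 0]], [1, 2, -1, 1, 1, -1]⟩,
  ⟨[1, 1, 1, 1, 2, 2], [53, 65, 69], [40, 49, 45], [50, 58, 62], [43, 41, 52], [48, 61, 59], [[-1, 0, 0, 0, 1, 0, 0], [-1, 0, 1, 0, 0, 0, 0], [-1, 0, 1, -1, 0, 1, 0], [-1, 1, 1, 0, 1, 0, -1], [1, 0, -1, 0, -1, 0, 1], [1, -1, -1, 1, 0, 0, 0]], [1, 2, -1, 1, 1, -1]⟩,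
  ⟨[1, 1, 1, 2, 1, 1], [55, 65, 67], [40, 47, 43], [52, 60, 62], [45, 39, 50], [48, 63, 59], [[-1, 0, 0, 0, 1, 0, 0], [-1, 0, 1, 0, 0, 0, 0], [-1, 0, 1, -1, 0, 1, 0], [1, 0, -1, 1, 0, 0, 0], [-1, 1, 1, -1, 0, 0, 0], [-1, 0, 1, 0, 1, 0, -1]], [1, 2, -1, 1, 1, -1]⟩,
  ⟨[1, 1, 1, 2, 2, 2], [55, 64, 68], [41, 47, 43], [51, 59, 63], [44, 39, 50], [49, 62, 60], [[-1, 0, 0, 0, 1, 0, 0], [-1, 0, 1, 0, 0, 0, 0], [-1, 0, 1, -1, 0, 1, 0], [1, 0, -1, 1, 0, 0, 0], [1, 0, 0, 0, 0, -1, 0], [1, 0, -1, 0, -1, 0, 1]], [1, 2, -1, 1, 1, -1]⟩,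
  ⟨[1, 1, 2, 0, 1, 0], [45, 58, 71], [36, 39, 50], [44, 57, 66], [41, 34, 53], [42, 59, 63], [[1, -1, -1, 0, 1, 0, 0], [1, -1, -1, -1, 0, 1, 0], [-1, 1, 1, 0, 0, 0, 0], [0, 0, 0, 1, 0, 0, 0], [1, -1, 0, -1, 0, 0, 0], [0, 1, 0, 0, 0, 0, 0]], [2, 1, 1, -1, -1, 1]⟩,
  ⟨[1, 1, 2, 1, 0, 2], [44, 60, 71], [37, 41, 52], [43, 57, 64], [40, 38, 54], [42, 58, 62], [[1, -1, -1, 0, 1, 0, 0], [1, -1, -1, -1, 0, 1, 0], [-1, 1, 1, 0, 0, 0, 0], [1, -1, 0, 0, 0, 0, 0], [0, 1, 0, 0, 0, 0, 0], [-1, 0, 0, 1, 0, 0, 0]], [2, 1, 1, -1, -1, 1]⟩,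
  ⟨[1, 1, 2, 1, 2, 1], [45, 59, 71], [38, 40, 51], [43, 57, 65], [41, 37, 53], [42, 58, 63], [[1, -1, -1, 0, 1, 0, 0], [1, -1, -1, -1, 0, 1, 0], [-1, 1, 1, 0, 0, 0, 0], [1, -1, 0, 0, 0, 0, 0], [-1, 1, 0, 1, 0, 0, 0], [1, 0, 0, -1, 0, 0, 0]], [2, 1, 1, -1, -1, 1]⟩,
  ⟨[1, 2, 0, 0, 2, 0], [43, 60, 71], [39, 36, 55], [42, 59, 61], [34, 41, 52], [44, 57, 64], [[1, -1, -1, 0, 1, 0, 0], [-1, 0, 0, 0, -1, 0, 1], [0, 0, 1, 0, 0, 0, 0], [0, 1, 0, 0, 0, 0, 0], [-1, 0, 0, 0, 0, 0, 0], [0, 0, 0, 1, 0, 0, 0]], [2, 1, 1, -1, -1, 1]⟩,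
  ⟨[1, 2, 0, 2, 0, 1], [45, 59, 71], [41, 37, 53], [42, 58, 63], [38, 40, 51], [43, 57, 65], [[1, -1, -1, 0, 1, 0, 0], [-1, 0, 0, 0, -1, 0, 1], [0, 0, 1, 0, 0, 0, 0], [-1, 1, 0, 0, 0, 0, 0], [0, 0, 0, 1, 0, 0, 0], [1, 0, 0, -1, 0, 0, 0]], [2, 1, 1, -1, -1, 1]⟩,
  ⟨[1, 2, 0, 2, 1, 2], [44, 60, 71], [40, 38, 54], [42, 58, 62], [37, 41, 52], [43, 57, 64], [[1, -1, -1, 0, 1, 0, 0], [-1, 0, 0, 0, -1, 0, 1], [0, 0, 1, 0, 0, 0, 0], [-1, 1, 0, 0, 0, 0, 0], [1, 0, 0, 0, 0, 0, 0], [-1, 0, 0, 1, 0, 0, 0]], [2, 1, 1, -1, -1, 1]⟩,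
  ⟨[1, 2, 1, 0, 1, 1], [55, 65, 67], [45, 39, 50], [48, 63, 59], [40, 47, 43], [52, 60, 62], [[1, -1, -1, 0, 1, 0, 0], [-1, 0, 1, 0, 0, 0, 0], [1, 0, -1, -1, 0, 1, 0], [0, 0, 0, 1, 0, 0, 0], [1, 0, 0, -1, 0, 0, 0], [1, 0, -1, 0, 1, 0, -1]], [1, 2, 1, -1, -1, 1]⟩,
  ⟨[1, 2, 1, 0, 2, 2], [55, 64, 68], [44, 39, 50], [49, 62, 60], [41, 47, 43], [51, 59, 63], [[1, -1, -1, 0, 1, 0, 0], [-1, 0, 1, 0, 0, 0, 0], [1, 0, -1, -1, 0, 1, 0], [0, 0, 0, 1, 0, 0, 0], [-1, 1, 1, 0, 0, -1, 0], [-1, 0, 1, 0, -1, 0, 1]], [1, 2, 1, -1, -1, 1]⟩,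
  ⟨[1, 2, 1, 1, 1, 1], [53, 66, 68], [44, 41, 52], [47, 62, 58], [39, 49, 45], [51, 59, 61], [[1, -1, -1, 0, 1, 0, 0], [-1, 0, 1, 0, 0, 0, 0], [1, 0, -1, -1, 0, 1, 0], [1, 0, 0, 0, 0, 0, 0], [1, 0, -1, 0, 1, 0, -1], [1, -1, -1, 0, 0, 1, 0]], [1, 2, 1, -1, -1, 1]⟩,
  ⟨[1, 2, 1, 1, 2, 2], [54, 66, 67], [45, 40, 51], [47, 63, 58], [39, 48, 44], [52, 60, 61], [[1, -1, -1, 0, 1, 0, 0], [-1, 0, 1, 0, 0, 0, 0], [1, 0, -1, -1, 0, 1, 0], [1, 0, 0, 0, 0, 0, 0], [-1, 0, 0, 1, 0, 0, 0], [-1, 1, 1, 0, 0, -1, 0]], [1, 2, 1, -1, -1, 1]⟩,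
  ⟨[1, 2, 1, 2, 1, 1], [54, 64, 69], [43, 40, 51], [49, 61, 60], [41, 48, 44], [50, 58, 63], [[1, -1, -1, 0, 1, 0, 0], [-1, 0, 1, 0, 0, 0, 0], [1, 0, -1, -1, 0, 1, 0], [-1, 1, 1, 1, 0, -1, 0], [1, -1, -1, 0, 0, 1, 0], [1, 0, 0, -1, 0, 0, 0]], [1, 2, 1, -1, -1, 1]⟩,
  ⟨[1, 2, 1, 2, 2, 2], [53, 65, 69], [43, 41, 52], [48, 61, 59], [40, 49, 45], [50, 58, 62], [[1, -1, -1, 0, 1, 0, 0], [-1, 0, 1, 0, 0, 0, 0], [1, 0, -1, -1, 0, 1, 0], [-1, 1, 1, 1, 0, -1, 0], [-1, 0, 1, 0, -1, 0, 1], [-1, 0, 0, 1, 0, 0, 0]], [1, 2, 1, -1, -1, 1]⟩,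
  ⟨[1, 2, 2, 1, 1, 0], [52, 61, 70], [36, 47, 43], [51, 57, 66], [42, 34, 53], [49, 62, 60], [[-1, 0, 0, 0, 1, 0, 0], [1, 0, 0, 1, 0, -1, 0], [1, 0, 0, 0, 0, 0, 0], [-1, 0, 0, 0, 0, 1, 0], [-1, 0, 1, -1, 0, 0, 0], [0, 1, 0, 0, 0, 0, 0]], [1, 2, -1, 1, 1, -1]⟩,
  ⟨[1, 2, 2, 2, 0, 2], [51, 63, 70], [37, 49, 45], [50, 57, 64], [42, 38, 54], [48, 61, 59], [[-1, 0, 0, 0, 1, 0, 0], [1, 0, 0, 1, 0, -1, 0], [1, 0, 0, 0, 0, 0, 0], [1, -1, -1, 0, -1, 0, 1], [0, 1, 0, 0, 0, 0, 0], [1, -1, -1, 1, 0, 0, 0]], [1, 2, -1, 1, 1, -1]⟩,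
  ⟨[1, 2, 2, 2, 2, 1], [52, 62, 70], [38, 48, 44], [50, 57, 65], [42, 37, 53], [49, 61, 60], [[-1, 0, 0, 0, 1, 0, 0], [1, 0, 0, 1, 0, -1, 0], [1, 0, 0, 0, 0, 0, 0], [1, -1, -1, 0, -1, 0, 1], [1, 0, -1, 1, 0, 0, 0], [-1, 1, 1, -1, 0, 0, 0]], [1, 2, -1, 1, 1, -1]⟩]

/-- the coordinates of the roots modulo three -/
def RM : List (List ℕ) := [
  [2, 1, 1, 0, 1, 2],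
  [2, 2, 1, 0, 1, 2],
  [2, 2, 1, 1, 1, 2],
  [2, 2, 1, 1, 2, 2],
  [2, 2, 1, 1, 2, 0],
  [2, 2, 2, 1, 1, 2],
  [2, 2, 2, 1, 2, 2],
  [2, 2, 2, 1, 2, 0],
  [2, 2, 2, 2, 2, 2],
  [2, 2, 2, 2, 2, 0],
  [2, 2, 2, 2, 0, 0],
  [2, 0, 2, 2, 2, 2],
  [2, 0, 2, 2, 2, 0],
  [2, 0, 2, 2, 0, 0],
  [2, 0, 2, 0, 0, 0],
  [2, 0, 0, 0, 0, 0],
  [0, 2, 2, 1, 1, 2],
  [0, 2, 2, 1, 2, 2],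
  [0, 2, 2, 1, 2, 0],
  [0, 2, 2, 2, 2, 2],
  [0, 2, 2, 2, 2, 0],
  [0, 2, 2, 2, 0, 0],
  [0, 2, 0, 2, 2, 2],
  [0, 2, 0, 2, 2, 0],
  [0, 2, 0, 2, 0, 0],
  [0, 2, 0, 0, 0, 0],
  [0, 0, 2, 2, 2, 2],
  [0, 0, 2, 2, 2, 0],
  [0, 0, 2, 2, 0, 0],
  [0, 0, 2, 0, 0, 0],
  [0, 0, 0, 2, 2, 2],
  [0, 0, 0, 2, 2, 0],
  [0, 0, 0, 2, 0, 0],
  [0, 0, 0, 0, 2, 2],
  [0, 0, 0, 0, 2, 0],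
  [0, 0, 0, 0, 0, 2],
  [0, 0, 0, 0, 0, 1],
  [0, 0, 0, 0, 1, 0],
  [0, 0, 0, 0, 1, 1],
  [0, 0, 0, 1, 0, 0],
  [0, 0, 0, 1, 1, 0],
  [0, 0, 0, 1, 1, 1],
  [0, 0, 1, 0, 0, 0],
  [0, 0, 1, 1, 0, 0],
  [0, 0, 1, 1, 1, 0],
  [0, 0, 1, 1, 1, 1],
  [0, 1, 0, 0, 0, 0],
  [0, 1, 0, 1, 0, 0],
  [0, 1, 0, 1, 1, 0],
  [0, 1, 0, 1, 1, 1],
  [0, 1, 1, 1, 0, 0],
  [0, 1, 1, 1, 1, 0],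
  [0, 1, 1, 1, 1, 1],
  [0, 1, 1, 2, 1, 0],
  [0, 1, 1, 2, 1, 1],
  [0, 1, 1, 2, 2, 1],
  [1, 0, 0, 0, 0, 0],
  [1, 0, 1, 0, 0, 0],
  [1, 0, 1, 1, 0, 0],
  [1, 0, 1, 1, 1, 0],
  [1, 0, 1, 1, 1, 1],
  [1, 1, 1, 1, 0, 0],
  [1, 1, 1, 1, 1, 0],
  [1, 1, 1, 1, 1, 1],
  [1, 1, 1, 2, 1, 0],
  [1, 1, 1, 2, 1, 1],
  [1, 1, 1, 2, 2, 1],
  [1, 1, 2, 2, 1, 0],
  [1, 1, 2, 2, 1, 1],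
  [1, 1, 2, 2, 2, 1],
  [1, 1, 2, 0, 2, 1],
  [1, 2, 2, 0, 2, 1]]

theorem RM_eq : ∀ q < 72, ∀ k : Fin 6, ((RM.getD q []).getD k 0 : ℤ) = vec chevE6 6 q k % 3 := by
  decide +kernel

def dotM (e0 e1 e2 e3 e4 e5 : ℕ) : List ℕ → ℕ
  | [a0, a1, a2, a3, a4, a5] => (e0 * a0 + e1 * a1 + e2 * a2 + e3 * a3 + e4 * a4 + e5 * a5) % 3
  | _ => 1

def cnt (e0 e1 e2 e3 e4 e5 : ℕ) : ℕ := RM.countP fun x => dotM e0 e1 e2 e3 e4 e5 x == 0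

def eqv (e0 e1 e2 e3 e4 e5 : ℕ) (f : List ℕ) : Bool :=
  f == [e0, e1, e2, e3, e4, e5] || f == [(3 - e0) % 3, (3 - e1) % 3, (3 - e2) % 3, (3 - e3) % 3, (3 - e4) % 3, (3 - e5) % 3]

theorem chk_f : ∀ e0 e1 e2 e3 e4 e5 : Fin 3, (cnt e0 e1 e2 e3 e4 e5 == 18) = true →
    (TT6.any fun r => eqv e0 e1 e2 e3 e4 e5 r.f) = true := by
  decide +kernel

end Cfsg.Agent.H194.RG
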